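import Groth.Agent.L28.Pts.Basic
import Mathlib.Algebra.Category.ModuleCat.Basic
import Mathlib.CategoryTheory.Sites.LocallyBijective
import Mathlib.CategoryTheory.Sites.CoverLifting
import Mathlib.RingTheory.Finiteness.Basic

/-!
Morphisms of constant sheaves of modules with finitely generated source are locally given by linear maps.
-/

set_option autoImplicit false

universe w v u v' u' r v₂ u₂

open CategoryTheory Limits Opposite

namespace Groth.L28.LocConst

section General

variable {C : Type u} [Category.{v} C] {J : GrothendieckTopology C}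
  {A : Type u'} [Category.{v'} A] [HasWeakSheafify J A]

/-- the global section of a constant sheaf -/
noncomputable abbrev cs (J : GrothendieckTopology C) [HasWeakSheafify J A] (M : A) (U : C) :
    M ⟶ ((constantSheaf J A).obj M).obj.obj (op U) :=
  (toSheafify J ((Functor.const Cᵒᵖ).obj M)).app (op U)

@[reassoc]
lemma cs_map (M : A) {U V : C} (g : V ⟶ U) :
    cs J M U ≫ ((constantSheaf J A).obj M).obj.map g.op = cs J M V :=
  ((toSheafify J ((Functor.const Cᵒᵖ).obj M)).naturality g.op).symm.trans (Category.id_comp _)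

@[reassoc]
lemma cs_app {M N : A} (h : M ⟶ N) (U : C) :
    cs J M U ≫ ((constantSheaf J A).map h).hom.app (op U) = h ≫ cs J N U :=
  (congrArg (fun k => k.app (op U)) (toSheafify_naturality J ((Functor.const Cᵒᵖ).map h))).symm

/-- morphisms out of a constant sheaf are determined on the global sections -/
lemma hom_ext {M : A} {G : Sheaf J A} {φ ψ : (constantSheaf J A).obj M ⟶ G}
    (h : ∀ U : C, cs J M U ≫ φ.hom.app (op U) = cs J M U ≫ ψ.hom.app (op U)) : φ = ψ := by
  refine Sheaf.hom_ext (sheafify_hom_ext J φ.hom ψ.hom G.property (NatTrans.ext (funext fun U => ?_)))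
  exact h U.unop

variable {D : Type u₂} [Category.{v₂} D] {K : GrothendieckTopology D} [HasWeakSheafify K A]
  (G : C ⥤ D) [G.IsContinuous J K] [G.IsCocontinuous J K]
  [∀ F : Cᵒᵖ ⥤ A, G.op.HasPointwiseRightKanExtension F]

/-- continuous and cocontinuous functors preserve constant sheaves -/
noncomputable def constCompat (M : A) :
    (G.sheafPushforwardContinuous A J K).obj ((constantSheaf K A).obj M) ≅ (constantSheaf J A).obj M :=
  ((G.pushforwardContinuousSheafificationCompatibility A J K).app ((Functor.const Dᵒᵖ).obj M)).symm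

@[reassoc]
lemma cs_constCompat_inv (M : A) (U : C) :
    cs J M U ≫ (constCompat (J := J) (K := K) G M).inv.hom.app (op U) = cs K M (G.obj U) :=
  congrArg (fun k => k.app (op U))
    (G.toSheafify_pullbackSheafificationCompatibility A J K ((Functor.const Dᵒᵖ).obj M))

@[reassoc]
lemma cs_constCompat_hom (M : A) (U : C) :
    cs K M (G.obj U) ≫ (constCompat (J := J) (K := K) G M).hom.hom.app (op U) = cs J M U := by
  have h : (constCompat (J := J) (K := K) G M).inv.hom.app (op U) ≫
      (constCompat (J := J) (K := K) G M).hom.hom.app (op U) = 𝟙 _ :=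
    congrArg (fun k => k.hom.app (op U)) (constCompat (J := J) (K := K) G M).inv_hom_id
  refine (congrArg (fun k => k ≫ (constCompat (J := J) (K := K) G M).hom.hom.app (op U))
    (cs_constCompat_inv (J := J) (K := K) G M U).symm).trans ?_
  exact (Category.assoc _ _ _).trans ((congrArg (fun k => cs J M U ≫ k) h).trans (Category.comp_id _))

end General

section Module

variable {C : Type u} [Category.{v} C] {J : GrothendieckTopology C} {R : Type r} [CommRing R]
  [HasWeakSheafify J (ModuleCat.{w} R)] [J.WEqualsLocallyBijective (ModuleCat.{w} R)]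

/-- a morphism of constant sheaves with finitely generated source is locally given by a linear map -/
lemma locally_const_hom {M N : ModuleCat.{w} R} [Module.Finite R M]
    (φ : (constantSheaf J (ModuleCat.{w} R)).obj M ⟶ (constantSheaf J (ModuleCat.{w} R)).obj N) (W : C) :
    ∃ S ∈ J W, ∀ (V : C) (g : V ⟶ W), S g →
      ∃ h : M ⟶ N, cs J M V ≫ φ.hom.app (op V) = h ≫ cs J N V := by
  obtain ⟨n, m, hm⟩ := Module.Finite.exists_fin (R := R) (M := M)
  let s : Fin n → ((constantSheaf J (ModuleCat.{w} R)).obj N).obj.obj (op W) :=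
    fun k => φ.hom.app (op W) (cs J M W (m k))
  let S : Sieve W :=
    Finset.univ.inf fun k => Presheaf.imageSieve (toSheafify J ((Functor.const Cᵒᵖ).obj N)) (s k)
  have hS : S ∈ J W := by
    refine Finset.inf_induction (p := fun T => T ∈ J W) (J.top_mem W)
      (fun a ha b hb => J.intersection_covering ha hb) fun k _ => ?_
    exact Presheaf.imageSieve_mem J _ _
  refine ⟨S, hS, fun V g hg => ?_⟩
  have hk : ∀ k, ∃ t : N, cs J N V t = φ.hom.app (op V) (cs J M V (m k)) := by
    intro k
    obtain ⟨t, ht⟩ := (Finset.inf_le (f := fun k => Presheaf.imageSieve (toSheafify J ((Functor.const Cᵒᵖ).obj N))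
      (s k)) (Finset.mem_univ k) : S ≤ _) g hg
    refine ⟨t, ht.trans ?_⟩
    refine (NatTrans.naturality_apply φ.hom g.op (cs J M W (m k))).symm.trans (congrArg _ ?_)
    exact ConcreteCategory.congr_hom (cs_map (J := J) M g) (m k)
  by_cases hV : (⊥ : Sieve V) ∈ J V
  · refine ⟨0, ConcreteCategory.hom_ext _ _ fun x => ?_⟩
    have hP : Presheaf.IsSheaf J ((constantSheaf J (ModuleCat.{w} R)).obj N).obj :=
      ((constantSheaf J (ModuleCat.{w} R)).obj N).2
    have h0 : (𝟙 (((constantSheaf J (ModuleCat.{w} R)).obj N).obj.obj (op V))) = 0 :=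
      hP.hom_ext ⟨⊥, hV⟩ _ _ fun I => I.hf.elim
    have h1 : ∀ y : ((constantSheaf J (ModuleCat.{w} R)).obj N).obj.obj (op V), y = 0 :=
      fun y => ConcreteCategory.congr_hom h0 y
    exact (h1 _).trans (h1 _).symm
  · have hinj : Function.Injective (cs J N V).hom := by
      intro a b hab
      by_contra hne
      refine hV ?_
      have := Presheaf.equalizerSieve_mem J (toSheafify J ((Functor.const Cᵒᵖ).obj N)) (X := op V) a b hab
      exact J.superset_covering (fun Z f hf => hne hf) this
    have hrange : LinearMap.range (cs J M V ≫ φ.hom.app (op V)).hom ≤ LinearMap.range (cs J N V).hom := by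
      rw [LinearMap.range_eq_map, ← hm, Submodule.map_span, Submodule.span_le]
      rintro _ ⟨_, ⟨k, rfl⟩, rfl⟩
      exact hk k
    refine ⟨ModuleCat.ofHom ((LinearEquiv.ofInjective _ hinj).symm.toLinearMap ∘ₗ
      (cs J M V ≫ φ.hom.app (op V)).hom.codRestrict _ fun x => hrange ⟨x, rfl⟩),
      ConcreteCategory.hom_ext _ _ fun x => ?_⟩
    exact (congrArg Subtype.val ((LinearEquiv.ofInjective _ hinj).apply_symm_apply
      ⟨(cs J M V ≫ φ.hom.app (op V)).hom x, hrange ⟨x, rfl⟩⟩)).symm

end Module

end Groth.L28.LocConst
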