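import Groth.Agent.L28.LocConst.Pull
import Groth.Agent.L28.Pts.EtMod
import Groth.Agent.L28.LocConst.EtMod
import Groth.Prelude.Def_EtRestW
import Groth.Prelude.Def_EtMod2

/-!
Inverse images preserve locally constant sheaves.
-/

set_option autoImplicit false

universe u

open CategoryTheory CategoryTheory.Limits AlgebraicGeometry Opposite GrothendieckTopology

set_option backward.isDefEq.respectTransparency.types false

namespace Groth.L28.LocConst

variable {X Y : Scheme.{u}} (f : X ⟶ Y)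

instance : HasProducts.{u} AddCommGrpCat.{u + 1} := fun J =>
  haveI : HasLimitsOfSize.{u, u} AddCommGrpCat.{u + 1} := hasLimitsOfSizeShrink.{u, u, u + 1, u + 1} _
  inferInstance

instance (Λ : Type (u + 1)) [CommRing Λ] : HasProducts.{u} (ModuleCat.{u + 1} Λ) := fun J =>
  haveI : HasLimitsOfSize.{u, u} (ModuleCat.{u + 1} Λ) := hasLimitsOfSizeShrink.{u, u, u + 1, u + 1} _
  inferInstance

theorem isLocallyConstant_pull (G : EtCoh.Ab Y) (hG : EtRest.IsLocallyConstant G) :
    EtRest.IsLocallyConstant ((EtCoh.pull f).obj G) := by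
  obtain ⟨ι, U, hU, h⟩ := hG
  refine ⟨ι, fun i => (EtCoh.bc f).obj (U i), covers_bc f hU, fun i => ?_⟩
  obtain ⟨M, _, ⟨α⟩⟩ := h i
  exact ⟨M, inferInstance, nonempty_pull_over_iso_const f G α⟩

theorem isFiniteLocallyConstant_pull [EtCoh.BCCont f] (G : EtCoh.Ab Y) (hG : EtCoh.IsFiniteLocallyConstant G) :
    EtCoh.IsFiniteLocallyConstant ((EtCoh.pull f).obj G) := by
  obtain ⟨ι, U, hU, h⟩ := hG
  refine ⟨ι, fun i => (EtCoh.bc f).obj (U i), covers_bc f hU, fun i => ?_⟩
  obtain ⟨M, _, hM, ⟨α⟩⟩ := h i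
  exact ⟨M, inferInstance, hM, nonempty_pull_over_iso_const f G α⟩

theorem isFTLocConst_pull {Λ : Type (u + 1)} [CommRing Λ] (G : EtModW.Mod Λ Y) (hG : EtModW.IsFTLocConst Λ G) :
    EtModW.IsFTLocConst Λ ((EtModW.pull Λ f).obj G) := by
  obtain ⟨ι, U, hU, h⟩ := hG
  refine ⟨ι, fun i => (EtCoh.bc f).obj (U i), covers_bc f hU, fun i => ?_⟩
  obtain ⟨M, _, _, hM, ⟨α⟩⟩ := h i
  exact ⟨M, inferInstance, inferInstance, hM, nonempty_pull_over_iso_const f G α⟩

end Groth.L28.LocConst
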