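import Groth.Agent.L28.LocConst.Sect
import Mathlib.Algebra.Category.ModuleCat.Kernels
import Mathlib.Algebra.Category.ModuleCat.Abelian
import Mathlib.Algebra.Homology.ShortComplex.ShortExact
import Mathlib.CategoryTheory.Limits.Preserves.Shapes.Kernels
import Mathlib.RingTheory.Noetherian.Basic
import Mathlib.CategoryTheory.ObjectProperty.Extensions

/-!
Locally constant sheaves of modules of finite type: kernels, cokernels and extensions.
-/

set_option autoImplicit false

universe u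

open CategoryTheory CategoryTheory.Limits AlgebraicGeometry Opposite GrothendieckTopology

set_option backward.isDefEq.respectTransparency.types false

namespace Groth.L28.LocConst

variable {Λ : Type (u + 1)} [CommRing Λ] {X : Scheme.{u}}

instance constOver_left_exact (W : X.Etale) : PreservesFiniteLimits (constOver (Λ := Λ) W) :=
  inferInstanceAs (PreservesFiniteLimits (Functor.const (Over W)ᵒᵖ ⋙
    presheafToSheaf (X.smallEtaleTopology.over W) (ModuleCat.{u + 1} Λ)))

instance constOver_right_exact (W : X.Etale) : PreservesFiniteColimits (constOver (Λ := Λ) W) :=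
  inferInstanceAs (PreservesFiniteColimits (Functor.const (Over W)ᵒᵖ ⋙
    presheafToSheaf (X.smallEtaleTopology.over W) (ModuleCat.{u + 1} Λ)))

instance constOver_additive (W : X.Etale) : (constOver (Λ := Λ) W).Additive :=
  Functor.additive_of_preserves_binary_products _

/-- restriction to a localised site -/
noncomputable abbrev res (W : X.Etale) : EtModW.Mod Λ X ⥤ Sheaf (X.smallEtaleTopology.over W) (ModuleCat.{u + 1} Λ) :=
  X.smallEtaleTopology.overPullback (ModuleCat.{u + 1} Λ) W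

instance res_isLeftAdjoint (W : X.Etale) : (res (Λ := Λ) W).IsLeftAdjoint :=
  ⟨_, ⟨(Over.forget W).sheafAdjunctionCocontinuous _ _ _⟩⟩

instance res_left_exact (W : X.Etale) : PreservesFiniteLimits (res (Λ := Λ) W) := inferInstance

instance res_right_exact (W : X.Etale) : PreservesFiniteColimits (res (Λ := Λ) W) := inferInstance

instance res_additive (W : X.Etale) : (res (Λ := Λ) W).Additive :=
  Functor.additive_of_preserves_binary_products _

variable [IsNoetherianRing Λ]

theorem isFTLocConst_kernel_cokernel {F G : EtModW.Mod Λ X} (φ : F ⟶ G) (hF : EtModW.IsFTLocConst Λ F)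
    (hG : EtModW.IsFTLocConst Λ G) :
    EtModW.IsFTLocConst Λ (kernel φ) ∧ EtModW.IsFTLocConst Λ (cokernel φ) := by
  obtain ⟨ι, U, hU, h⟩ := exists_locally_linear φ hF hG
  refine ⟨⟨ι, U, hU, fun i => ?_⟩, ⟨ι, U, hU, fun i => ?_⟩⟩
  · obtain ⟨M, N, _, _, f, α, β, hf⟩ := h i
    haveI : IsNoetherian Λ M := isNoetherian_of_isNoetherianRing_of_finite Λ M
    haveI : Module.Finite Λ (kernel f : ModuleCat.{u + 1} Λ) := Module.Finite.equiv (ModuleCat.kernelIsoKer f).toLinearEquiv.symm
    exact ⟨(kernel f : ModuleCat.{u + 1} Λ), inferInstance, inferInstance, inferInstance,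
      ⟨PreservesKernel.iso (res (U i)) φ ≪≫ kernel.mapIso _ _ α β hf ≪≫
        (PreservesKernel.iso (constOver (U i)) f).symm⟩⟩
  · obtain ⟨M, N, _, _, f, α, β, hf⟩ := h i
    haveI : Module.Finite Λ (cokernel f : ModuleCat.{u + 1} Λ) :=
      Module.Finite.equiv (ModuleCat.cokernelIsoRangeQuotient f).toLinearEquiv.symm
    exact ⟨(cokernel f : ModuleCat.{u + 1} Λ), inferInstance, inferInstance, inferInstance,
      ⟨PreservesCokernel.iso (res (U i)) φ ≪≫ cokernel.mapIso _ _ α β hf ≪≫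
        (PreservesCokernel.iso (constOver (U i)) f).symm⟩⟩

/-- sections over an object are left exact -/
noncomputable abbrev secFunctor (V : X.Etale) : EtModW.Mod Λ X ⥤ ModuleCat.{u + 1} Λ :=
  sheafToPresheaf _ _ ⋙ (evaluation _ _).obj (op V)

lemma exists_iso_of_shortExact {S : ShortComplex (EtModW.Mod Λ X)} (hS : S.ShortExact) {W : X.Etale}
    (w : W.left) {M' M'' : ModuleCat.{u + 1} Λ} [Module.Finite Λ M'] [Module.Finite Λ M'']
    (α : EtModW.restr Λ S.X₁ W ≅ (constOver W).obj M') (γ : EtModW.restr Λ S.X₃ W ≅ (constOver W).obj M'') :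
    ∃ (V : X.Etale) (g : V ⟶ W) (v : V.left) (M : ModuleCat.{u + 1} Λ) (_ : Module.Finite Λ M),
      g.left.base v = w ∧ Nonempty (EtModW.restr Λ S.X₂ V ≅ (constOver V).obj M) := by
  obtain ⟨n, m, hm⟩ := Module.Finite.exists_fin (R := Λ) (M := M'')
  haveI := hS.epi_g
  haveI := hS.mono_f
  haveI : Sheaf.IsLocallySurjective S.g := (Sheaf.isLocallySurjective_iff_epi' (φ := S.g)).2 inferInstance
  obtain ⟨V₁, g₁, v₁, hv₁, hs⟩ := exists_common_sieve
    (fun k => Presheaf.imageSieve S.g.hom (sec γ (m k))) (fun k => Presheaf.imageSieve_mem _ _ _) w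
  choose s hs using hs
  let l₀ : (Fin n → Λ) →ₗ[Λ] S.X₂.obj.obj (op V₁) := Fintype.linearCombination Λ s
  let p₀ : (Fin n → Λ) →ₗ[Λ] M'' := Fintype.linearCombination Λ m
  have hgl : ∀ a, S.g.hom.app (op V₁) (l₀ a) = sec (restrIso g₁ γ) (p₀ a) := fun a => by
    simp only [l₀, p₀, Fintype.linearCombination_apply, map_sum, map_smul]
    refine Finset.sum_congr rfl fun k _ => congrArg (fun t => a k • t) ?_
    rw [sec_restrIso]
    exact hs k
  haveI : IsNoetherian Λ (Fin n → Λ) := isNoetherian_of_isNoetherianRing_of_finite Λ _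
  obtain ⟨r, z, hz⟩ := Module.Finite.exists_fin (R := Λ) (M := LinearMap.ker p₀)
  have hex : (S.map (secFunctor (Λ := Λ) V₁)).Exact := hS.exact.map_of_mono_of_preservesKernel _ inferInstance inferInstance
  have ht : ∀ j, ∃ t : S.X₁.obj.obj (op V₁), S.f.hom.app (op V₁) t = l₀ (z j).1 := fun j =>
    (ShortComplex.moduleCat_exact_iff _).1 hex (l₀ (z j).1) (by
      show S.g.hom.app (op V₁) (l₀ (z j).1) = 0
      rw [hgl, LinearMap.mem_ker.1 (z j).2, map_zero])
  choose t ht using ht
  obtain ⟨V, g, v, hv, hx⟩ := exists_sec_eq (restrIso g₁ α) t v₁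
  choose x hx using hx
  let α' := restrIso g (restrIso g₁ α)
  let γ' := restrIso g (restrIso g₁ γ)
  let l : (Fin n → Λ) →ₗ[Λ] S.X₂.obj.obj (op V) := (rs S.X₂ g).hom ∘ₗ l₀
  let a₀ : M' →ₗ[Λ] S.X₂.obj.obj (op V) := (sec α' ≫ S.f.hom.app (op V)).hom
  let M₀ : Submodule Λ (S.X₂.obj.obj (op V)) := LinearMap.range (a₀.coprod l)
  haveI : Module.Finite Λ M₀ := Module.Finite.range _
  have hgl' : ∀ a, S.g.hom.app (op V) (l a) = sec γ' (p₀ a) := fun a => by
    rw [sec_restrIso g]
    show _ = rs S.X₃ g (sec (restrIso g₁ γ) (p₀ a))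
    rw [← hgl]
    exact NatTrans.naturality_apply S.g.hom g.op _
  have hga : ∀ y, S.g.hom.app (op V) (a₀ y) = 0 := fun y =>
    ConcreteCategory.congr_hom (congrArg (fun k => k.hom.app (op V)) S.zero) (sec α' y)
  have hmem : ∀ e : M₀, ∃ q : M'', sec γ' q = S.g.hom.app (op V) e.1 := by
    rintro ⟨_, ⟨⟨y, c⟩, rfl⟩⟩
    refine ⟨p₀ c, ?_⟩
    show _ = S.g.hom.app (op V) (a₀ y + l c)
    rw [map_add, hga, hgl', zero_add]
  have hinjγ := sec_injective γ' v
  have hrange : ∀ e : M₀, S.g.hom.app (op V) e.1 ∈ LinearMap.range (sec γ').hom := hmem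
  let b : M₀ →ₗ[Λ] M'' := (LinearEquiv.ofInjective (sec γ').hom hinjγ).symm.toLinearMap ∘ₗ
    (((S.g.hom.app (op V)).hom ∘ₗ M₀.subtype).codRestrict _ hrange)
  have hb : ∀ e : M₀, sec γ' (b e) = S.g.hom.app (op V) e.1 := fun e =>
    congrArg Subtype.val ((LinearEquiv.ofInjective (sec γ').hom hinjγ).apply_symm_apply
      ⟨S.g.hom.app (op V) e.1, hrange e⟩)
  let a : M' →ₗ[Λ] M₀ := a₀.codRestrict M₀ fun y => ⟨(y, 0), by simp⟩
  have hab : b ∘ₗ a = 0 := LinearMap.ext fun y => hinjγ ((hb (a y)).trans ((hga y).trans (map_zero _).symm))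
  have hbsurj : Function.Surjective b := fun q => by
    obtain ⟨c, hc⟩ : q ∈ LinearMap.range p₀ := by
      rw [show LinearMap.range p₀ = Submodule.span Λ (Set.range m) from Fintype.range_linearCombination Λ m, hm]
      trivial
    refine ⟨⟨l c, ⟨(0, c), by simp⟩⟩, hinjγ ((hb _).trans ?_)⟩
    rw [← hc]
    exact hgl' c
  have hainj : Function.Injective a := fun y y' h => by
    haveI : Mono (S.f.hom.app (op V)) := (secFunctor (Λ := Λ) V).map_mono S.f
    exact sec_injective α' v ((ModuleCat.mono_iff_injective (S.f.hom.app (op V))).1 inferInstance (congrArg Subtype.val h))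
  have hker : ∀ c, p₀ c = 0 → l c ∈ LinearMap.range a₀ := fun c hc => by
    have : (LinearMap.ker p₀) ≤ (LinearMap.range a₀).comap l := by
      intro c hc
      have hle : (⊤ : Submodule Λ (LinearMap.ker p₀)) ≤
          ((LinearMap.range a₀).comap l).comap (LinearMap.ker p₀).subtype := by
        rw [← hz, Submodule.span_le]
        rintro _ ⟨j, rfl⟩
        refine ⟨x j, ?_⟩
        show S.f.hom.app (op V) (sec α' (x j)) = rs S.X₂ g (l₀ (z j).1)
        rw [hx, ← ht]
        exact NatTrans.naturality_apply S.f.hom g.op _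
      exact hle (x := ⟨c, hc⟩) trivial
    exact this hc
  let T : ShortComplex (ModuleCat.{u + 1} Λ) :=
    ShortComplex.mk (ModuleCat.ofHom a) (ModuleCat.ofHom b) (ModuleCat.hom_ext hab)
  have hT : T.ShortExact := by
    haveI : Mono T.f := (ModuleCat.mono_iff_injective _).2 hainj
    haveI : Epi T.g := (ModuleCat.epi_iff_surjective _).2 hbsurj
    refine ShortComplex.ShortExact.mk' ((ShortComplex.moduleCat_exact_iff _).2 ?_) inferInstance inferInstance
    rintro ⟨_, ⟨⟨y, c⟩, rfl⟩⟩ h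
    have h1 := (hb ⟨_, ⟨(y, c), rfl⟩⟩).symm.trans (congrArg (sec γ').hom h)
    have h2 : S.g.hom.app (op V) (a₀ y + l c) = sec γ' 0 := h1
    rw [map_add, hga, hgl', zero_add] at h2
    obtain ⟨y', hy'⟩ := hker c (hinjγ h2)
    refine ⟨y + y', Subtype.ext ?_⟩
    show a₀ (y + y') = a₀ y + l c
    rw [map_add, hy']
  let ε : (constOver V).obj (ModuleCat.of Λ M₀) ⟶ (res V).obj S.X₂ := ofSec (ModuleCat.ofHom M₀.subtype)
  have hε : cs (X.smallEtaleTopology.over V) _ (top V) ≫ ε.hom.app (op (top V)) = ModuleCat.ofHom M₀.subtype :=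
    cs_top_ofSec _
  let φ : T.map (constOver V) ⟶ S.map (res V) :=
    { τ₁ := α'.inv
      τ₂ := ε
      τ₃ := γ'.inv
      comm₁₂ := hom_ext_top (ConcreteCategory.hom_ext _ _ fun y => by
        refine Eq.trans ?_ (congrArg (ε.hom.app (op (top V))).hom
          (ConcreteCategory.congr_hom (cs_app (J := X.smallEtaleTopology.over V) (ModuleCat.ofHom a) (top V)) y)).symm
        exact (ConcreteCategory.congr_hom hε (a y)).symm)
      comm₂₃ := hom_ext_top (ConcreteCategory.hom_ext _ _ fun e => by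
        refine Eq.trans ?_ (congrArg (γ'.inv.hom.app (op (top V))).hom
          (ConcreteCategory.congr_hom (cs_app (J := X.smallEtaleTopology.over V) (ModuleCat.ofHom b) (top V)) e)).symm
        exact (congrArg (S.g.hom.app (op V)).hom (ConcreteCategory.congr_hom hε e)).trans (hb e).symm) }
  haveI : IsIso φ.τ₁ := inferInstanceAs (IsIso α'.inv)
  haveI : IsIso φ.τ₃ := inferInstanceAs (IsIso γ'.inv)
  haveI : IsIso ε := ShortComplex.isIso₂_of_shortExact_of_isIso₁₃ φ (hT.map_of_exact (constOver V))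
    (hS.map_of_exact (res V))
  refine ⟨V, g ≫ g₁, v, ModuleCat.of Λ M₀, inferInstance, ?_, ⟨(asIso ε).symm⟩⟩
  rw [← hv₁, ← hv]
  exact Scheme.Hom.comp_apply _ _ _

theorem isClosedUnderExtensions :
    ObjectProperty.IsClosedUnderExtensions (fun F : EtModW.Mod Λ X => EtModW.IsFTLocConst Λ F) := by
  refine ⟨fun {S} hS ⟨ι, U, hU, h⟩ ⟨κ, U', hU', h'⟩ => ?_⟩
  have key : ∀ x : X, ∃ (V : X.Etale) (v : V.left) (M : ModuleCat.{u + 1} Λ) (_ : Module.Finite Λ M),
      V.hom.base v = x ∧ Nonempty (EtModW.restr Λ S.X₂ V ≅ (constOver V).obj M) := by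
    intro x
    obtain ⟨W, i, j, a, b, w, rfl⟩ := exists_common hU hU' x
    obtain ⟨M, _, _, hM, ⟨α⟩⟩ := h i
    obtain ⟨N, _, _, hN, ⟨γ⟩⟩ := h' j
    obtain ⟨V, g, v, P, hP, hv, e⟩ := exists_iso_of_shortExact hS w (restrIso a α) (restrIso b γ)
    refine ⟨V, v, P, hP, ?_, e⟩
    rw [← hv]
    exact (congrArg (fun m : V.left ⟶ X => m.base v) (Over.w g.hom)).symm.trans (Scheme.Hom.comp_apply _ _ _)
  choose V v M hM hv e using key
  exact ⟨X, V, fun x => ⟨x, v x, hv x⟩, fun x => ⟨M x, inferInstance, inferInstance, hM x, e x⟩⟩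

end Groth.L28.LocConst
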