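import Groth.Agent.L27.EtSite.Points
import Groth.Agent.L28.Pts.Basic
import Mathlib.CategoryTheory.Sites.LocallyBijective

/-!
Isomorphisms of sheaves on localised small étale sites are detected on stalks.
-/

set_option autoImplicit false

universe u w v

open CategoryTheory CategoryTheory.Limits AlgebraicGeometry Opposite GrothendieckTopology

set_option backward.isDefEq.respectTransparency.types false

namespace Groth.L28.LocConst

variable {X : Scheme.{u}} {W : X.Etale} {A : Type w} [Category.{v} A] {FA : A → A → Type*} {CA : A → Type (u + 1)}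
  [∀ (P Q : A), FunLike (FA P Q) (CA P) (CA Q)] [ConcreteCategory.{u + 1} A FA]
  [HasColimitsOfSize.{u, u} A] [PreservesFilteredColimitsOfSize.{u, u} (forget A)]
  {P Q : (Over W)ᵒᵖ ⥤ A} (f : P ⟶ Q)

theorem isLocallySurjective_over_of_stalks
    (h : ∀ (Ω : Type u) [Field Ω] [IsSepClosed Ω] (ξ : Spec (CommRingCat.of Ω) ⟶ X)
      (y : (Scheme.pointSmallEtale ξ).fiber.obj W),
      Function.Surjective (((Scheme.pointSmallEtale ξ).over y).presheafFiber.map f)) :
    Presheaf.IsLocallySurjective (X.smallEtaleTopology.over W) f := by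
  refine ⟨fun {U} s => (X.smallEtaleTopology.mem_over_iff _).2 ((Groth.L27.EtSite.mem_topology_iff _).2 fun x => ?_)⟩
  obtain ⟨Ω, _, _, ξ, hξ⟩ := Groth.L27.EtSite.exists_geometric_point (U.left.hom.base x)
  obtain ⟨y', hy⟩ := Groth.L27.EtSite.exists_fiber ξ U.left x hξ.symm
  let Φ := (Scheme.pointSmallEtale ξ).over ((Scheme.pointSmallEtale ξ).fiber.map U.hom y')
  let y : Φ.fiber.obj U := ⟨y', rfl⟩
  obtain ⟨t', ht'⟩ := h Ω ξ ((Scheme.pointSmallEtale ξ).fiber.map U.hom y') (Φ.toPresheafFiber U y Q s)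
  obtain ⟨V, z, t, rfl⟩ := Φ.toPresheafFiber_jointly_surjective t'
  obtain ⟨⟨V', v'⟩, ⟨a, ha⟩, ⟨b, hb⟩, -⟩ := IsCofilteredOrEmpty.cone_objs
    (Φ.fiber.elementsMk V z) (Φ.fiber.elementsMk U y)
  have e : Φ.toPresheafFiber V' v' Q (f.app _ (P.map a.op t)) = Φ.toPresheafFiber V' v' Q (Q.map b.op s) := by
    rw [← GrothendieckTopology.Point.toPresheafFiber_naturality_apply,
      GrothendieckTopology.Point.toPresheafFiber_w_apply, GrothendieckTopology.Point.toPresheafFiber_w_apply]
    rw [show Φ.fiber.map a v' = z from ha, show Φ.fiber.map b v' = y from hb]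
    exact ht'
  obtain ⟨W', c, w', hw', hc⟩ := (Φ.toPresheafFiber_eq_iff' _ _ _ _).1 e
  refine ⟨W'.left, (c ≫ b).left, w'.1.left.base (default : Spec (CommRingCat.of Ω)),
    (Sieve.overEquiv_iff _ _).2 ?_, ?_⟩
  · have hS : Presheaf.imageSieve f s (c ≫ b) := ⟨P.map c.op (P.map a.op t), by
      rw [NatTrans.naturality_apply, hc, op_comp, Q.map_comp, ConcreteCategory.comp_apply]⟩
    have heq : (Over.homMk (c ≫ b).left : Over.mk ((c ≫ b).left ≫ U.hom) ⟶ U) =
        (Over.homMk (𝟙 W'.left) ((Category.id_comp _).trans (Over.w (c ≫ b)).symm) :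
          Over.mk ((c ≫ b).left ≫ U.hom) ⟶ W') ≫ (c ≫ b) :=
      Over.OverMorphism.ext (Category.id_comp _).symm
    rw [heq]
    exact (Presheaf.imageSieve f s).downward_closed hS _
  · rw [← hy]
    have hy' : Φ.fiber.map (c ≫ b) w' = y := by
      rw [Functor.map_comp]
      show Φ.fiber.map b (Φ.fiber.map c w') = y
      rw [hw']; exact hb
    exact congrArg (fun q : (Scheme.pointSmallEtale ξ).fiber.obj U.left => q.left.base (default : Spec (CommRingCat.of Ω)))
      (congrArg Subtype.val hy')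

theorem isLocallyInjective_over_of_stalks
    (h : ∀ (Ω : Type u) [Field Ω] [IsSepClosed Ω] (ξ : Spec (CommRingCat.of Ω) ⟶ X)
      (y : (Scheme.pointSmallEtale ξ).fiber.obj W),
      Function.Injective (((Scheme.pointSmallEtale ξ).over y).presheafFiber.map f)) :
    Presheaf.IsLocallyInjective (X.smallEtaleTopology.over W) f := by
  refine ⟨fun {U'} s t hst => (X.smallEtaleTopology.mem_over_iff _).2 ((Groth.L27.EtSite.mem_topology_iff _).2 fun x => ?_)⟩
  obtain ⟨U⟩ := U'
  obtain ⟨Ω, _, _, ξ, hξ⟩ := Groth.L27.EtSite.exists_geometric_point (U.left.hom.base x)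
  obtain ⟨y', hy⟩ := Groth.L27.EtSite.exists_fiber ξ U.left x hξ.symm
  let Φ := (Scheme.pointSmallEtale ξ).over ((Scheme.pointSmallEtale ξ).fiber.map U.hom y')
  let y : Φ.fiber.obj U := ⟨y', rfl⟩
  have e := @h Ω _ _ ξ ((Scheme.pointSmallEtale ξ).fiber.map U.hom y') (Φ.toPresheafFiber U y P s)
    (Φ.toPresheafFiber U y P t) (by
      rw [GrothendieckTopology.Point.toPresheafFiber_naturality_apply,
        GrothendieckTopology.Point.toPresheafFiber_naturality_apply, hst])
  obtain ⟨W', c, w', hw, hc⟩ := (Φ.toPresheafFiber_eq_iff' _ _ _ _).1 e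
  refine ⟨W'.left, c.left, w'.1.left.base (default : Spec (CommRingCat.of Ω)), (Sieve.overEquiv_iff _ _).2 ?_, ?_⟩
  · have heq : (Over.homMk c.left : Over.mk (c.left ≫ U.hom) ⟶ U) =
        (Over.homMk (𝟙 W'.left) ((Category.id_comp _).trans (Over.w c).symm) :
          Over.mk (c.left ≫ U.hom) ⟶ W') ≫ c :=
      Over.OverMorphism.ext (Category.id_comp _).symm
    show Presheaf.equalizerSieve (X := op U) s t (Over.homMk c.left : Over.mk (c.left ≫ U.hom) ⟶ U)
    rw [heq]
    exact (Presheaf.equalizerSieve (X := op U) s t).downward_closed hc _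
  · rw [← hy]
    exact congrArg (fun q : (Scheme.pointSmallEtale ξ).fiber.obj U.left => q.left.base (default : Spec (CommRingCat.of Ω)))
      (congrArg Subtype.val hw)

theorem isIso_over_of_stalks [(forget A).ReflectsIsomorphisms]
    [(X.smallEtaleTopology.over W).HasSheafCompose (forget A)]
    {G H : Sheaf (X.smallEtaleTopology.over W) A} (φ : G ⟶ H)
    (h : ∀ (Ω : Type u) [Field Ω] [IsSepClosed Ω] (ξ : Spec (CommRingCat.of Ω) ⟶ X)
      (y : (Scheme.pointSmallEtale ξ).fiber.obj W),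
      IsIso (((Scheme.pointSmallEtale ξ).over y).sheafFiber.map φ)) : IsIso φ := by
  have hb : ∀ (Ω : Type u) [Field Ω] [IsSepClosed Ω] (ξ : Spec (CommRingCat.of Ω) ⟶ X)
      (y : (Scheme.pointSmallEtale ξ).fiber.obj W),
      Function.Bijective (((Scheme.pointSmallEtale ξ).over y).presheafFiber.map φ.hom) :=
    fun Ω _ _ ξ y => (ConcreteCategory.isIso_iff_bijective _).1 (h Ω ξ y)
  exact (Sheaf.isLocallyBijective_iff_isIso φ).1
    ⟨isLocallyInjective_over_of_stalks φ.hom fun Ω _ _ ξ y => (hb Ω ξ y).1,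
      isLocallySurjective_over_of_stalks φ.hom fun Ω _ _ ξ y => (hb Ω ξ y).2⟩

end Groth.L28.LocConst
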