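import Groth.Agent.L28.LocConst.Stalks
import Groth.Agent.L28.LocConst.Basic
import Groth.Agent.L28.Pts.Comap
import Groth.Agent.L27.EtSite.Pull

/-!
Inverse images of trivialised sheaves on small étale sites are trivialised.
-/

set_option autoImplicit false

universe u w v

open CategoryTheory CategoryTheory.Limits AlgebraicGeometry Opposite GrothendieckTopology

set_option backward.isDefEq.respectTransparency.types false

namespace Groth.L28.LocConst

section Lift

variable {A : Type w} [Category.{v} A] {X : Scheme.{u}} {W : X.Etale}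
  [HasWeakSheafify (X.smallEtaleTopology.over W) A]

/-- the morphism out of a constant sheaf on a localised site given by a section -/
noncomputable def liftSec {M : A} {G : Sheaf (X.smallEtaleTopology.over W) A}
    (l : M ⟶ G.obj.obj (op (Over.mk (𝟙 W)))) :
    (constantSheaf (X.smallEtaleTopology.over W) A).obj M ⟶ G :=
  ObjectProperty.homMk (CategoryTheory.sheafifyLift (X.smallEtaleTopology.over W)
    ({ app := fun V => l ≫ G.obj.map (Over.homMk V.unop.hom (Category.comp_id _) : V.unop ⟶ Over.mk (𝟙 W)).op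
       naturality := fun V V' g => by
        show 𝟙 M ≫ l ≫ _ = (l ≫ _) ≫ _
        rw [Category.id_comp, Category.assoc, ← G.obj.map_comp]
        refine congrArg (fun k => l ≫ G.obj.map k) ?_
        exact Quiver.Hom.unop_inj (Over.OverMorphism.ext (Over.w g.unop).symm) } :
      (Functor.const (Over W)ᵒᵖ).obj M ⟶ G.obj) G.2)

lemma cs_liftSec {M : A} {G : Sheaf (X.smallEtaleTopology.over W) A}
    (l : M ⟶ G.obj.obj (op (Over.mk (𝟙 W)))) :
    cs (X.smallEtaleTopology.over W) M (Over.mk (𝟙 W)) ≫ (liftSec l).hom.app (op (Over.mk (𝟙 W))) = l := by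
  refine (congrArg (fun k : (Functor.const (Over W)ᵒᵖ).obj M ⟶ G.obj => k.app (op (Over.mk (𝟙 W))))
    (CategoryTheory.toSheafify_sheafifyLift (X.smallEtaleTopology.over W) _ G.2)).trans ?_
  show l ≫ G.obj.map _ = l
  rw [show (Over.homMk (Over.mk (𝟙 W)).hom (Category.comp_id _) : Over.mk (𝟙 W) ⟶ Over.mk (𝟙 W)) = 𝟙 _ from
    Over.OverMorphism.ext rfl]
  exact (congrArg (fun k => l ≫ k) (G.obj.map_id _)).trans (Category.comp_id _)

end Lift

variable {A : Type w} [Category.{v} A] {FA : A → A → Type*} {CA : A → Type (u + 1)}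
  [instFun : ∀ (P Q : A), FunLike (FA P Q) (CA P) (CA Q)] [instCC : ConcreteCategory.{u + 1} A FA]
  [HasColimitsOfSize.{u, u} A] [HasProducts.{u} A] [instPF : PreservesFilteredColimitsOfSize.{u, u} (forget A)]
  [instRI : (forget A).ReflectsIsomorphisms]

include instFun instCC instPF instRI

lemma isIso_cs_germ {C : Type (u + 1)} [Category.{u} C] {J : GrothendieckTopology C} (Φ : Point.{u} J)
    [HasWeakSheafify J A] (hW : J.W.IsInvertedBy (Φ.presheafFiber (A := A))) (M : A) (U : C) (x : Φ.fiber.obj U) :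
    IsIso (cs J M U ≫ Φ.toPresheafFiber U x ((constantSheaf J A).obj M).obj) := by
  have h := Pts.constSect_sheafFiberConstIso_hom Φ hW M U x
  have : cs J M U ≫ Φ.toPresheafFiber U x ((constantSheaf J A).obj M).obj = (Pts.sheafFiberConstIso Φ hW M).inv :=
    (Iso.comp_hom_eq_id _).1 ((Category.assoc _ _ _).trans h)
  rw [this]
  infer_instance

variable {X Y : Scheme.{u}} (f : X ⟶ Y)
  [∀ (W : X.Etale), HasWeakSheafify (X.smallEtaleTopology.over W) A]
  [∀ (U : Y.Etale), HasWeakSheafify (Y.smallEtaleTopology.over U) A]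
  [∀ (W : X.Etale), (X.smallEtaleTopology.over W).WEqualsLocallyBijective A]
  [∀ (U : Y.Etale), (Y.smallEtaleTopology.over U).WEqualsLocallyBijective A]
  [∀ (W : X.Etale), (X.smallEtaleTopology.over W).HasSheafCompose (forget A)]
  [((EtCoh.bc f).sheafPushforwardContinuous A Y.smallEtaleTopology X.smallEtaleTopology).IsRightAdjoint]

theorem nonempty_pull_over_iso_const (F : Sheaf Y.smallEtaleTopology A) {U : Y.Etale} {M : A}
    (α : F.over U ≅ (constantSheaf (Y.smallEtaleTopology.over U) A).obj M) :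
    Nonempty ((((EtCoh.bc f).sheafPullback A Y.smallEtaleTopology X.smallEtaleTopology).obj F).over ((EtCoh.bc f).obj U) ≅
      (constantSheaf (X.smallEtaleTopology.over ((EtCoh.bc f).obj U)) A).obj M) := by
  set PF := ((EtCoh.bc f).sheafPullback A Y.smallEtaleTopology X.smallEtaleTopology).obj F with hPF
  set W := (EtCoh.bc f).obj U with hW
  let η := ((EtCoh.bc f).sheafAdjunctionContinuous A Y.smallEtaleTopology X.smallEtaleTopology).unit.app F
  let sα : M ⟶ F.obj.obj (op U) :=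
    cs (Y.smallEtaleTopology.over U) M (Over.mk (𝟙 U)) ≫ α.inv.hom.app (op (Over.mk (𝟙 U)))
  let l : M ⟶ (PF.over W).obj.obj (op (Over.mk (𝟙 W))) := sα ≫ η.hom.app (op U)
  let ε : (constantSheaf (X.smallEtaleTopology.over W) A).obj M ⟶ PF.over W := liftSec l
  have hε : cs (X.smallEtaleTopology.over W) M (Over.mk (𝟙 W)) ≫ ε.hom.app (op (Over.mk (𝟙 W))) = l := cs_liftSec l
  suffices IsIso ε from ⟨(asIso ε).symm⟩
  refine isIso_over_of_stalks ε fun Ω _ _ ξ y => ?_
  let Φ := (Scheme.pointSmallEtale ξ).over y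
  let e : Φ.fiber.obj (Over.mk (𝟙 W)) := ⟨y, rfl⟩
  haveI := isIso_cs_germ (A := A) Φ (Point.W_isInvertedBy_presheafFiber' _) M (Over.mk (𝟙 W)) e
  let Ψ := (Scheme.pointSmallEtale ξ).comap (EtCoh.bc f) (EtCoh.coverPreserving_bc f)
  let z : Ψ.fiber.obj U := y
  let Ψz := Ψ.over z
  let e' : Ψz.fiber.obj (Over.mk (𝟙 U)) := ⟨z, ((congrArg (fun k : (EtCoh.bc f).obj U ⟶ (EtCoh.bc f).obj U => (Scheme.pointSmallEtale ξ).fiber.map k y) ((EtCoh.bc f).map_id U)).trans rfl : Ψ.fiber.map (𝟙 U) z = z)⟩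
  have h1 : IsIso (sα ≫ Ψ.toPresheafFiber U z F.obj) := by
    have e1 : sα ≫ Ψ.toPresheafFiber U z F.obj =
        (cs (Y.smallEtaleTopology.over U) M (Over.mk (𝟙 U)) ≫
          Ψz.toPresheafFiber (Over.mk (𝟙 U)) e' _) ≫ Ψz.sheafFiber.map α.inv ≫
          ((Pts.sheafFiberOverIso Ψ z).app F).hom := by
      refine Eq.trans ?_ (Category.assoc _ _ _).symm
      refine (Category.assoc _ _ _).trans (congrArg (fun k => cs (Y.smallEtaleTopology.over U) M _ ≫ k) ?_)
      refine Eq.trans ?_ (GrothendieckTopology.Point.toPresheafFiber_naturality_assoc Ψz α.inv.hom (Over.mk (𝟙 U)) e' _).symm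
      exact congrArg (fun k => α.inv.hom.app _ ≫ k)
        (Pts.toPresheafFiber_presheafFiberOverObjIso_hom Ψ z F.obj (Over.mk (𝟙 U)) e').symm
    haveI := isIso_cs_germ (A := A) Ψz (Point.W_isInvertedBy_presheafFiber' _) M (Over.mk (𝟙 U)) e'
    rw [e1]
    exact IsIso.comp_isIso' (isIso_cs_germ (A := A) Ψz (Point.W_isInvertedBy_presheafFiber' _) M (Over.mk (𝟙 U)) e')
      (IsIso.comp_isIso' (Functor.map_isIso _ _) (Iso.isIso_hom _))
  have h2 : (cs (X.smallEtaleTopology.over W) M (Over.mk (𝟙 W)) ≫ Φ.toPresheafFiber (Over.mk (𝟙 W)) e _) ≫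
      Φ.sheafFiber.map ε ≫ ((Pts.sheafFiberOverIso (Scheme.pointSmallEtale ξ) y).app PF).hom =
      (sα ≫ Ψ.toPresheafFiber U z F.obj) ≫
        ((Scheme.pointSmallEtale ξ).sheafFiberComapIso (EtCoh.bc f) (EtCoh.coverPreserving_bc f) A).hom.app F := by
    refine Eq.trans ?_ ((congrArg (fun k => sα ≫ k)
      (Pts.toPresheafFiber_sheafFiberComapIso_hom (Scheme.pointSmallEtale ξ) (EtCoh.bc f)
        (EtCoh.coverPreserving_bc f) F U z).symm).trans (Category.assoc _ _ _).symm)
    refine (Category.assoc _ _ _).trans ?_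
    refine (congrArg (fun k => cs (X.smallEtaleTopology.over W) M _ ≫ k)
      ((GrothendieckTopology.Point.toPresheafFiber_naturality_assoc Φ ε.hom (Over.mk (𝟙 W)) e _).trans
        (congrArg (fun k => ε.hom.app _ ≫ k)
          (Pts.toPresheafFiber_presheafFiberOverObjIso_hom (Scheme.pointSmallEtale ξ) y PF.obj (Over.mk (𝟙 W)) e)))).trans ?_
    exact (Category.assoc _ _ _).symm.trans ((congrArg (fun k => k ≫ _) hε).trans (Category.assoc _ _ _))
  have h4 : IsIso ((cs (X.smallEtaleTopology.over W) M (Over.mk (𝟙 W)) ≫ Φ.toPresheafFiber (Over.mk (𝟙 W)) e _) ≫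
      Φ.sheafFiber.map ε ≫ ((Pts.sheafFiberOverIso (Scheme.pointSmallEtale ξ) y).app PF).hom) := by
    rw [h2]; exact IsIso.comp_isIso' h1 (Iso.isIso_hom (((Scheme.pointSmallEtale ξ).sheafFiberComapIso (EtCoh.bc f) (EtCoh.coverPreserving_bc f) A).app F))
  have h3 : IsIso (Φ.sheafFiber.map ε ≫ ((Pts.sheafFiberOverIso (Scheme.pointSmallEtale ξ) y).app PF).hom) :=
    @IsIso.of_isIso_comp_left _ _ _ _ _ _ _
      (isIso_cs_germ (A := A) Φ (Point.W_isInvertedBy_presheafFiber' _) M (Over.mk (𝟙 W)) e) h4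
  exact @IsIso.of_isIso_comp_right _ _ _ _ _ (Φ.sheafFiber.map ε)
    ((Pts.sheafFiberOverIso (Scheme.pointSmallEtale ξ) y).app PF).hom (Iso.isIso_hom _) h3

omit instFun instCC instPF instRI in
theorem covers_bc {ι : Type u} {U : ι → Y.Etale} (hU : EtCoh.Covers U) :
    EtCoh.Covers fun i => (EtCoh.bc f).obj (U i) := fun x => by
  obtain ⟨i, z, hz⟩ := hU (f.base x)
  obtain ⟨w, h1, h2⟩ := Scheme.Pullback.exists_preimage_pullback z x hz
  exact ⟨i, w, h2⟩

end Groth.L28.LocConst
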